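import Mathlib
import Cfsg.Prelude.Def_FischerSpaces
import Cfsg.Agent.Lib.ThreeTransp.Factor.Indep
import Cfsg.Agent.Lib.ThreeTransp.Cover
import Cfsg.Agent.InvChar.Coset.FieldFour

/-!
Fischer's theorem: vocabulary. The types are described by their commuting graphs only; see
notes/fischer-h10.md.
-/

set_option autoImplicit false

namespace Cfsg.Agent.Fischer

open Cfsg.Agent.ThreeTransp.Factor (nb)
open Cfsg.Agent.InvChar.Coset (FF)

universe u

variable {G : Type u} [Group G]

/-- The common neighbours of two members. -/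
def com (D : Set G) (a b : G) : Set G := nb D a ∩ nb D b

/-- A centreless primitive group of 3-transpositions of width at least two. -/
structure Std (D : Set G) : Prop where
  grp : Cfsg.IsThreeTranspositionGroup D
  prim : Cfsg.IsPrimitiveUnderConj D
  wide : ∃ a ∈ D, ∃ b ∈ D, a ≠ b ∧ Commute a b
  cent : Subgroup.center G = ⊥

/-- A set of members giving such a group modulo the centre of what it generates. -/
structure Space (E : Set G) : Prop where
  tt : Cfsg.IsThreeTranspositionSet E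
  conj : ∀ a ∈ E, ∀ b ∈ E, a * b * a⁻¹ ∈ E
  trans : ∀ a ∈ E, ∀ b ∈ E, ∃ g ∈ Subgroup.closure E, g * a * g⁻¹ = b
  wide : ∃ a ∈ E, ∃ b ∈ E, a ≠ b ∧ Commute a b
  connected : (Cfsg.commutingGraph E).Connected
  sep : ∀ a ∈ E, ∀ b ∈ E, (∀ e ∈ E, Commute a e ↔ Commute b e) → a = b
  psep : ∀ a ∈ E, ∀ b ∈ E, nb E a = nb E b → a = b

/-- The commuting graph on `E` is the graph `R`. -/
def GIso (E : Set G) {P : Type} (R : P → P → Prop) : Prop :=
  ∃ φ : E ≃ P, ∀ a b : E, Commute (a : G) (b : G) ↔ R (φ a) (φ b)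

/-- The transpositions as pairs. -/
abbrev SymP (n : ℕ) : Type := {s : Finset (Fin n) // s.card = 2}

/-- Commuting transpositions. -/
def symR (n : ℕ) (s t : SymP n) : Prop := s = t ∨ Disjoint s.1 t.1

/-- The points of the symplectic space over two elements. -/
abbrev SpP (m : ℕ) : Type := {v : Fin m ⊕ Fin m → ZMod 2 // v ≠ 0}

/-- Perpendicular points. -/
def spR (m : ℕ) (v w : SpP m) : Prop := Cfsg.sympForm m (ZMod 2) v.1 w.1 = 0

/-- The non-singular points of a quadratic form over two elements. -/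
abbrev O2P {ι : Type} (Q : (ι → ZMod 2) → ZMod 2) : Type := {v : ι → ZMod 2 // Q v = 1}

/-- Perpendicular non-singular points. -/
def o2R {ι : Type} (Q : (ι → ZMod 2) → ZMod 2) (v w : O2P Q) : Prop :=
  QuadraticMap.polar Q v.1 w.1 = 0

/-- The points of value one, up to sign, of a quadratic form over three elements. -/
abbrev O3P {n : ℕ} (Q : QuadraticForm (ZMod 3) (Fin n → ZMod 3)) : Type :=
  {s : Set (Fin n → ZMod 3) // ∃ v, Q v = 1 ∧ s = {v, -v}}

/-- Equal or perpendicular points. -/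
def o3R {n : ℕ} (Q : QuadraticForm (ZMod 3) (Fin n → ZMod 3)) (s t : O3P Q) : Prop :=
  s = t ∨ ∀ v ∈ s.1, ∀ w ∈ t.1, QuadraticMap.polar (⇑Q) v w = 0

/-- The isotropic points of the hermitian space over four elements. -/
abbrev UP (n : ℕ) : Type :=
  {L : Submodule FF (Fin n → FF) //
    ∃ v, v ≠ 0 ∧ Cfsg.hermForm n FF 2 v v = 0 ∧ L = Submodule.span FF {v}}

/-- Perpendicular isotropic points. -/
def uR (n : ℕ) (L M : UP n) : Prop := ∀ v ∈ L.1, ∀ w ∈ M.1, Cfsg.hermForm n FF 2 v w = 0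

/-- The group generated by `E` modulo its centre. -/
abbrev Quot (E : Set G) : Type u :=
  ↥(Subgroup.closure E) ⧸ Subgroup.center ↥(Subgroup.closure E)

/-- The image of `E` there. -/
def img (E : Set G) : Set (Quot E) :=
  (QuotientGroup.mk : ↥(Subgroup.closure E) → _) '' {x : ↥(Subgroup.closure E) | (x : G) ∈ E}

/-- The list. -/
inductive Types (E : Set G) : Prop
  | sym (n : ℕ) (hn : 5 ≤ n) (e : GIso E (symR n))
  | sp (m : ℕ) (hm : 2 ≤ m) (e : GIso E (spR m))
  | unit (n : ℕ) (hn : 4 ≤ n) (e : GIso E (uR n))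
  | o2p (m : ℕ) (hm : 3 ≤ m) (e : GIso E (o2R (Cfsg.quadFormPlus m (ZMod 2))))
  | o2m (m : ℕ) (hm : 2 ≤ m) (e : GIso E (o2R (Cfsg.quadFormMinus m (ZMod 2) 1 1)))
  | o3 (n : ℕ) (hn : 5 ≤ n) (Q : QuadraticForm (ZMod 3) (Fin n → ZMod 3))
      (hQ : (QuadraticMap.polarBilin Q).Nondegenerate) (e : GIso E (o3R Q))
  | m22 (h : Cfsg.IsOfTypeM22 (Quot E) (img E))
  | m23 (h : Cfsg.IsOfTypeM23 (Quot E) (img E))
  | m24 (h : Cfsg.IsOfTypeM24 (Quot E) (img E))

/-- The list holds for all smaller classes. -/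
def Below (n : ℕ) : Prop :=
  ∀ (H : Type u) [Group H] [Finite H] (E : Set H), Std E → E.ncard < n → Types E

end Cfsg.Agent.Fischer
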