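import Cfsg.Agent.Lib.Fischer.Step
import Cfsg.Agent.Lib.Fischer.Graph.Conclusion
import Cfsg.Agent.Lib.ThreeTransp.WidthOne

/-!
Fischer's theorem and its case of central local cores, given the rows.
-/

set_option autoImplicit false
set_option linter.unusedSectionVars false

open scoped MatrixGroups commutatorElement

namespace Cfsg.Agent.Fischer

open Cfsg.Agent.ThreeTransp
open Cfsg.Agent.ThreeTransp.Factor (nb Hd)

universe u

variable {G : Type u} [Group G] [Finite G] {D : Set G} (R : Rows.{u})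

include R in
/-- The case of central local cores. -/
theorem central_case (hD : Cfsg.IsThreeTranspositionGroup D) (hprim : Cfsg.IsPrimitiveUnderConj D)
    (hZ : Subgroup.center G = ⊥) (d : G) (hd : d ∈ D) (hw : ∃ b ∈ D, b ≠ d ∧ Commute d b)
    (h3 : Cfsg.pCore 3 ↥(Hd D d) ≤ Subgroup.center ↥(Hd D d))
    (h2 : Cfsg.pCore 2 ↥(Hd D d) ≤ Subgroup.center ↥(Hd D d)) : (∃ n : ℕ, 7 ≤ n ∧ ∃ e : G ≃* Equiv.Perm (Fin n), e '' D = {σ : Equiv.Perm (Fin n) | σ.IsSwap}) ∨ ((∃ m : ℕ, 3 ≤ m ∧ ∃ e : G ≃* ↥(Cfsg.isometryGroup (ZMod 2) (Cfsg.quadFormPlus m (ZMod 2))), e '' D = {g : ↥(Cfsg.isometryGroup (ZMod 2) (Cfsg.quadFormPlus m (ZMod 2))) | (((g : GL (Fin m ⊕ Fin m) (ZMod 2)) : Matrix (Fin m ⊕ Fin m) (Fin m ⊕ Fin m) (ZMod 2)) - 1).rank = 1}) ∨ (∃ m : ℕ, 2 ≤ m ∧ ∃ e : G ≃* ↥(Cfsg.isometryGroup (ZMod 2) (Cfsg.quadFormMinus m (ZMod 2) 1 1)), e '' D = {g : ↥(Cfsg.isometryGroup (ZMod 2) (Cfsg.quadFormMinus m (ZMod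 2) 1 1)) | (((g : GL ((Fin m ⊕ Fin m) ⊕ Fin 2) (ZMod 2)) : Matrix ((Fin m ⊕ Fin m) ⊕ Fin 2) ((Fin m ⊕ Fin m) ⊕ Fin 2) (ZMod 2)) - 1).rank = 1})) ∨ (∃ n : ℕ, 5 ≤ n ∧ ∃ Q : QuadraticForm (ZMod 3) (Fin n → ZMod 3), (QuadraticMap.polarBilin Q).Nondegenerate ∧ ∃ c : ZMod 3, c ≠ 0 ∧ ∃ e : G ≃* ↥(Cfsg.reflectionSubgroup (⇑Q) c) ⧸ Subgroup.center ↥(Cfsg.reflectionSubgroup (⇑Q) c), e '' D = (QuotientGroup.mk : ↥(Cfsg.reflectionSubgroup (⇑Q) c) → _) '' {g : ↥(Cfsg.reflectionSubgroup (⇑Q) c) | (g : ↥(Cfsg.isometryGroup (ZMod 3) (⇑Q))) ∈ Cfsg.reflectionsOfNorm (⇑Q) c}) ∨ (Cfsg.IsOfTypeM22 G D ∨ Cfsg.IsOfTypeM23 G D ∨ Cfsg.IsOfTypeM24 G D) := by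
  obtain ⟨b, hb, hbd, hdb⟩ := hw
  have h : Std D := ⟨hD, hprim, ⟨d, hd, b, hb, hbd.symm, hdb⟩, hZ⟩
  have hs := h.space_nb hd h2 h3
  cases h.step R hd (below_all R _) h2 h3 with
  | sym n hn e =>
    refine Or.inl ⟨n, ?_, e.sym_iso hD hZ hn⟩
    by_contra hlt
    exact sym_not hd (by omega) hs e
  | sp m hm e => exact absurd e (spR_not hd hs)
  | unit n hn e => exact absurd e (uR_not hd hs)
  | o2p m hm e => exact .inr (.inl (.inl ⟨m, hm, e.o2p_iso hD hZ hm⟩))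
  | o2m m hm e => exact .inr (.inl (.inr ⟨m, hm, e.o2m_iso hD hZ hm⟩))
  | o3 n hn Q hQ e => exact .inr (.inr (.inl ⟨n, hn, Q, hQ, 1, one_ne_zero, e.o3_iso hD hZ hn hQ⟩))
  | m22 e => exact .inr (.inr (.inr (.inl (m22_of_quot hD hZ e))))
  | m23 e => exact .inr (.inr (.inr (.inr (.inl (m23_of_quot hD hZ e)))))
  | m24 e => exact .inr (.inr (.inr (.inr (.inr (m24_of_quot hD hZ e)))))

theorem three_swaps : ∀ σ : Equiv.Perm (Fin 3), σ * σ = 1 → σ ≠ 1 → σ.support.card = 2 := by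
  decide +kernel

theorem three_all : ∀ σ τ ρ : Equiv.Perm (Fin 3), σ.support.card = 2 → τ.support.card = 2 →
    ρ.support.card = 2 → σ ≠ τ → ρ = σ ∨ ρ = τ ∨ ρ = σ * τ * σ := by
  decide +kernel

/-- Without two commuting members the group is the symmetric group of degree three. -/
theorem sym_three (hD : Cfsg.IsThreeTranspositionClass D) (hZ : Subgroup.center G = ⊥)
    (hsimple : IsSimpleGroup (commutator G)) (hw : ¬ ∃ a ∈ D, ∃ b ∈ D, a ≠ b ∧ Commute a b) :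
    ∃ e : G ≃* Equiv.Perm (Fin 3), e '' D = {σ : Equiv.Perm (Fin 3) | σ.IsSwap} := by
  classical
  obtain ⟨hG, htrans⟩ := Classes.of_class hD
  have hone : ∀ a ∈ D, ∀ b ∈ D, Commute a b → a = b := fun a ha b hb hc =>
    by_contra fun hne => hw ⟨a, ha, b, hb, hne, hc⟩
  have hfix : ∀ g : G, (∀ a ∈ D, g * a * g⁻¹ = a) → g = 1 := by
    intro g hg
    have hc : g ∈ Subgroup.center G := by
      rw [← Subgroup.centralizer_univ, ← Subgroup.coe_top, ← hG.2.2, Subgroup.centralizer_closure,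
        Subgroup.mem_centralizer_iff]
      exact fun a ha => (mul_inv_eq_iff_eq_mul.1 (hg a ha)).symm
    rwa [hZ, Subgroup.mem_bot] at hc
  obtain ⟨x, hx, -⟩ := hD.2.1
  obtain ⟨y, hy, hxy⟩ : ∃ y ∈ D, ¬ Commute x y := by
    by_contra! k
    refine Basic.ne_one hG.1 hx (hfix x fun a ha => ?_)
    rw [(k a ha).eq, mul_inv_cancel_right]
  have : Fact (Nat.Prime 3) := ⟨Nat.prime_three⟩
  have : (Cfsg.pCore 3 G).Normal := Cores.pCore_normal 3
  have hO : ∀ a ∈ D, ∀ b ∈ D, a * b ∈ Cfsg.pCore 3 G := fun a ha b hb =>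
    WidthOne.mul_mem_pCore hG.1 hG.2.1 hone ha hb
  have hK : commutator G ≤ Cfsg.pCore 3 G := by
    rcases IsSimpleGroup.eq_bot_or_eq_top_of_normal ((Cfsg.pCore 3 G).subgroupOf (commutator G))
      inferInstance with h | h
    · rw [Subgroup.subgroupOf_eq_bot, disjoint_iff] at h
      refine absurd ?_ hxy
      have hm : ⁅x, y⁆ ∈ Cfsg.pCore 3 G ⊓ commutator G := by
        refine ⟨?_, ?_⟩
        · rw [commutatorElement_def, Classes.inv hG hx, Classes.inv hG hy, mul_assoc]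
          exact mul_mem (hO x hx y hy) (hO x hx y hy)
        · rw [commutator_def]
          exact Subgroup.commutator_mem_commutator (Subgroup.mem_top _) (Subgroup.mem_top _)
      rwa [h, Subgroup.mem_bot, commutatorElement_eq_one_iff_commute] at hm
    · exact Subgroup.subgroupOf_eq_top.1 h
  have hP : IsPGroup 3 ↥(commutator G) := (Cores.pCore_isPGroup (G := G) 3).to_le hK
  have hcard : Nat.card ↥(commutator G) = 3 := by
    haveI := hsimple
    haveI : Nontrivial ↥(commutator G) := IsSimpleGroup.toNontrivial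
    haveI := hP.center_nontrivial
    have htop : Subgroup.center ↥(commutator G) = ⊤ :=
      (IsSimpleGroup.eq_bot_or_eq_top_of_normal _ inferInstance).resolve_left
        ((Subgroup.nontrivial_iff_ne_bot _).1 inferInstance)
    letI : CommGroup ↥(commutator G) :=
      { (inferInstance : Group ↥(commutator G)) with
        mul_comm := fun a b => (Subgroup.mem_center_iff.1 (htop ▸ Subgroup.mem_top b) a) }
    have hp := IsSimpleGroup.prime_card (α := ↥(commutator G))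
    obtain ⟨k, hk⟩ := IsPGroup.iff_card.1 hP
    rw [hk] at hp ⊢
    rw [hp.eq_one_of_pow, pow_one]
  -- every member lies in one coset of the derived group
  have hcos : ∀ z ∈ D, z * x ∈ commutator G := by
    intro z hz
    obtain ⟨g, rfl⟩ := htrans x hx z hz
    rw [commutator_def]
    have := Subgroup.commutator_mem_commutator (H₁ := (⊤ : Subgroup G)) (H₂ := (⊤ : Subgroup G))
      (g₁ := g) (g₂ := x) (Subgroup.mem_top _) (Subgroup.mem_top _)
    rwa [commutatorElement_def, Classes.inv hG hx] at this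
  have hxyne : x ≠ y := fun e => hxy (e ▸ Commute.refl x)
  have hzD : x * y * x ∈ D := Classes.conj_mem hG hx hy
  have hzx : x * y * x ≠ x := fun e => hxyne (mul_left_cancel (mul_right_cancel
    (e.trans (by rw [Classes.sq hG hx, one_mul] : x = x * x * x)))).symm
  have hzy : x * y * x ≠ y := fun e => hxy (by
    show x * y = y * x
    conv_rhs => rw [← e]
    rw [mul_assoc (x * y) x x, Classes.sq hG hx, mul_one])
  have hD3 : Nat.card ↥D = 3 := by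
    refine le_antisymm ?_ ?_
    · refine le_of_le_of_eq (Nat.card_le_card_of_injective (fun z : ↥D => (⟨z * x, hcos z z.2⟩ : ↥(commutator G)))
        fun a b e => Subtype.ext (mul_right_cancel (congrArg Subtype.val e))) hcard
    · rw [Nat.card_coe_set_eq]
      calc 3 = ({x, y, x * y * x} : Set G).ncard :=
            (Set.ncard_eq_three.2 ⟨x, y, _, hxyne, hzx.symm, hzy.symm, rfl⟩).symm
        _ ≤ D.ncard := Set.ncard_le_ncard (by
            rintro _ (rfl | rfl | rfl) <;> assumption) (Set.toFinite _)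
  let eD : ↥D ≃ Fin 3 := (Finite.equivFinOfCardEq hD3)
  let cj : G → ↥D → ↥D := fun g a => ⟨g * a * g⁻¹, hG.2.1 g a a.2⟩
  let ι : G →* Equiv.Perm ↥D :=
    { toFun := fun g => Equiv.mk (cj g) (cj g⁻¹)
        (fun a => Subtype.ext (by simp only [cj]; group))
        (fun a => Subtype.ext (by simp only [cj]; group))
      map_one' := Equiv.ext fun a => Subtype.ext (by simp [cj])
      map_mul' := fun g h => Equiv.ext fun a => Subtype.ext (by
        simp only [cj, Equiv.Perm.mul_apply, Equiv.coe_fn_mk]; group) }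
  let F : G →* Equiv.Perm (Fin 3) := eD.permCongrHom.toMonoidHom.comp ι
  have hinj : Function.Injective F := by
    refine eD.permCongrHom.injective.comp ((injective_iff_map_eq_one ι).2 fun g hg => hfix g fun a ha => ?_)
    exact congrArg (fun π : Equiv.Perm ↥D => ((π ⟨a, ha⟩ : ↥D) : G)) hg
  have hswap : ∀ a ∈ D, (F a).support.card = 2 := fun a ha =>
    three_swaps _ (by rw [← map_mul, Classes.sq hG ha, map_one])
      fun k => Basic.ne_one hG.1 ha (hinj (k.trans (map_one F).symm))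
  have hall : ∀ ρ : Equiv.Perm (Fin 3), ρ.IsSwap → ∃ a ∈ D, F a = ρ := by
    intro ρ hρ
    rcases three_all _ _ ρ (hswap x hx) (hswap y hy) (Equiv.Perm.card_support_eq_two.2 hρ)
      (fun k => hxyne (hinj k)) with h | h | h
    · exact ⟨x, hx, h.symm⟩
    · exact ⟨y, hy, h.symm⟩
    · exact ⟨_, hzD, by rw [h, map_mul, map_mul]⟩
  have hsurj : Function.Surjective F := by
    rw [← MonoidHom.range_eq_top, eq_top_iff, ← Equiv.Perm.closure_isSwap, Subgroup.closure_le]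
    intro ρ hρ
    obtain ⟨a, -, ha⟩ := hall ρ hρ
    exact ⟨a, ha⟩
  refine ⟨MulEquiv.ofBijective F ⟨hinj, hsurj⟩, Set.Subset.antisymm ?_ fun ρ hρ => ?_⟩
  · rintro _ ⟨a, ha, rfl⟩
    exact Equiv.Perm.card_support_eq_two.1 (hswap a ha)
  · obtain ⟨a, ha, e⟩ := hall ρ hρ
    exact ⟨a, ha, e⟩

include R in
/-- Fischer's theorem. -/
theorem fischer (hD : Cfsg.IsThreeTranspositionClass D) (hZ : Subgroup.center G = ⊥)
    (hsimple : IsSimpleGroup (commutator G)) : (∃ n : ℕ, ∃ e : G ≃* Equiv.Perm (Fin n), e '' D = {σ : Equiv.Perm (Fin n) | σ.IsSwap}) ∨ (∃ m : ℕ, ∃ e : G ≃* Matrix.symplecticGroup (Fin m) (ZMod 2), e '' D = {g : Matrix.symplecticGroup (Fin m) (ZMod 2) | ((g : Matrix (Fin m ⊕ Fin m) (Fin m ⊕ Fin m) (ZMod 2)) - 1).rank = 1}) ∨ (∃ (n : ℕ) (F : Type) (_ : Field F) (_ : Fintype F), Fintype.card F = 4 ∧ ∃ e : G ≃* Cfsg.PSU n F 2, e '' D = (QuotientGroup.mk : ↥(Cfsg.SU n F 2) → Cfsg.PSU n F 2)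 '' {g : ↥(Cfsg.SU n F 2) | (((g : Matrix.SpecialLinearGroup (Fin n) F) : Matrix (Fin n) (Fin n) F) - 1).rank = 1}) ∨ ((∃ m : ℕ, ∃ e : G ≃* ↥(Cfsg.isometryGroup (ZMod 2) (Cfsg.quadFormPlus m (ZMod 2))), e '' D = {g : ↥(Cfsg.isometryGroup (ZMod 2) (Cfsg.quadFormPlus m (ZMod 2))) | (((g : GL (Fin m ⊕ Fin m) (ZMod 2)) : Matrix (Fin m ⊕ Fin m) (Fin m ⊕ Fin m) (ZMod 2)) - 1).rank = 1}) ∨ (∃ m : ℕ, ∃ e : G ≃* ↥(Cfsg.isometryGroup (ZMod 2) (Cfsg.quadFormMinus m (ZMod 2) 1 1)), e '' D = {g : ↥(Cfsg.isometryGroup (ZMod 2) (Cfsg.quadFormMinus m (ZMod 2) 1 1)) | (((g : GL ((Fin m ⊕ Fin m) ⊕ Fin 2) (ZMod 2)) : Matrix ((Fin m ⊕ Fin m) ⊕ Fin 2) ((Fin m ⊕ Fin m) ⊕ Fin 2) (ZMod 2)) - 1).rank = 1})) ∨ (∃ n : ℕ, ∃ Q : QuadraticForm (ZMod 3) (Fin n → ZMod 3), (QuadraticMap.polarBilin Q).Nondegenerate ∧ ∃ c : ZMod 3, c ≠ 0 ∧ ∃ e : G ≃* ↥(Cfsg.reflectionSubgroup (⇑Q) c) ⧸ Subgroup.center ↥(Cfsg.reflectionSubgroup (⇑Q)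 c), e '' D = (QuotientGroup.mk : ↥(Cfsg.reflectionSubgroup (⇑Q) c) → _) '' {g : ↥(Cfsg.reflectionSubgroup (⇑Q) c) | (g : ↥(Cfsg.isometryGroup (ZMod 3) (⇑Q))) ∈ Cfsg.reflectionsOfNorm (⇑Q) c}) ∨ (Cfsg.IsOfTypeM22 G D ∨ Cfsg.IsOfTypeM23 G D ∨ Cfsg.IsOfTypeM24 G D) := by
  by_cases hw : ∃ a ∈ D, ∃ b ∈ D, a ≠ b ∧ Commute a b
  · have h : Std D := ⟨(Classes.of_class hD).1, (((S5361.result hD hZ hw).1).1 hsimple), hw, hZ⟩
    exact (R.classify h).conclusion h.grp h.cent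
  · exact .inl ⟨3, sym_three hD hZ hsimple hw⟩

end Cfsg.Agent.Fischer
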