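import Cfsg.Agent.Lib.Fischer.Final
import Cfsg.Agent.Lib.Fischer.Symp.Sp
import Cfsg.Agent.Lib.Fischer.Symp.OTwo
import Cfsg.Agent.Lib.Fischer.Symp.Bridges
import Cfsg.Agent.Lib.Fischer.OThree.Main
import Cfsg.Agent.Lib.Fischer.OThree.Small
import Cfsg.Agent.Lib.Fischer.Unit.Row
import Cfsg.Agent.Lib.Fischer.Big.M22
import Cfsg.Agent.Lib.Fischer.Big.M23
import Cfsg.Agent.Lib.Fischer.Big.M24

/-!
Fischer's theorem: one step up from each entry of the list.
-/

set_option autoImplicit false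
set_option linter.unusedSectionVars false

namespace Cfsg.Agent.Fischer

open Cfsg.Agent.ThreeTransp.Factor (nb)

universe u

theorem rows : Rows.{u} where
  sym := fun H _ _ D x hD hx hB n hn e => SymRow.row_sym hD hx hB hn e
  sp := fun H _ _ D x hD hx hB m hm e => row_sp hD hx hB hm e
  unit := fun H _ _ D x hD hx hB n hn e => by
    by_cases h4 : n = 4
    · subst h4
      obtain ⟨Q, hQ, e'⟩ := OThree.unit_four_o3 e
      exact OThree.row_o3 hD hx hB le_rfl Q hQ e'
    · exact row_unit hD hx hB (by omega) e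
  o2p := fun H _ _ D x hD hx hB m hm e => by
    by_cases h3 : m = 3
    · subst h3
      exact SymRow.row_sym hD hx hB (by omega : 5 ≤ 8) (SymRow.o2p_three_sym.1 e)
    · exact (o2p_false hD hx (by omega : 4 ≤ m) e).elim
  o2m := fun H _ _ D x hD hx hB m hm e => by
    by_cases h2 : m = 2
    · subst h2
      obtain ⟨Q, hQ, e'⟩ := OThree.o2m_two_o3 e
      exact OThree.row_o3 hD hx hB le_rfl Q hQ e'
    · exact (o2m_false hD hx (by omega : 3 ≤ m) e).elim
  o3 := fun H _ _ D x hD hx hB n hn Q hQ e => OThree.row_o3 hD hx hB hn Q hQ e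
  m22 := fun H _ _ D x hD hx hB e => row_m22 hD hx hB e
  m23 := fun H _ _ D x hD hx hB e => row_m23 hD hx hB e
  m24 := fun H _ _ D x hD hx hB e => row_m24 hD hx hB e

end Cfsg.Agent.Fischer
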