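import Cfsg.Agent.Lib.Fischer.Rows
import Cfsg.Agent.Lib.Fischer.Disc.OThree
import Cfsg.Agent.Lib.ThreeTransp.M22.Graph
import Cfsg.Agent.Lib.ThreeTransp.M24.Sign
import Cfsg.Agent.GenA.Tower.Main23
import Cfsg.Agent.Lib.Forms.SpecialOrth
import Cfsg.Agent.Lib.Classical.OrthForms

/-!
The simple groups among Fischer's groups.
-/

set_option autoImplicit false
set_option linter.unusedSectionVars false

namespace Cfsg.Agent.Fischer.Simple

open Cfsg.Agent.Forms.Reflections Cfsg.Agent.Forms.QuadStd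
open Cfsg.Agent.ThreeTransp

universe u

theorem perfect_congr {G H : Type*} [Group G] [Group H] (hperf : commutator G = ⊤) (e : G ≃* H) :
    commutator H = ⊤ := by
  rw [← Subgroup.map_top_of_surjective e.toMonoidHom e.surjective, ← hperf, commutator_def,
    commutator_def, Subgroup.map_commutator, Subgroup.map_top_of_surjective _ e.surjective]

theorem not_index_two {H : Type*} [Group H] (hperf : commutator H = ⊤)
    (h : (commutator H).index = 2) : False := by
  rw [hperf, Subgroup.index_top] at h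
  omega

theorem center_eq_bot {G : Type*} [Group G] [IsSimpleGroup G] (hna : ∃ x y : G, x * y ≠ y * x) :
    Subgroup.center G = ⊥ := by
  refine (IsSimpleGroup.eq_bot_or_eq_top_of_normal _ inferInstance).resolve_right fun h => ?_
  obtain ⟨x, y, hxy⟩ := hna
  exact hxy (Subgroup.mem_center_iff.1 (h ▸ Subgroup.mem_top y) x)

theorem perfect {G : Type*} [Group G] [IsSimpleGroup G] (hna : ∃ x y : G, x * y ≠ y * x) :
    commutator G = ⊤ := by
  refine (IsSimpleGroup.eq_bot_or_eq_top_of_normal _ inferInstance).resolve_left fun h => ?_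
  obtain ⟨x, y, hxy⟩ := hna
  exact hxy (commutatorElement_eq_one_iff_mul_comm.1 (Subgroup.mem_bot.1
    (h ▸ Subgroup.commutator_mem_commutator (Subgroup.mem_top x) (Subgroup.mem_top y))))

theorem not_perm {G : Type*} [Group G] (hperf : commutator G = ⊤) {n : ℕ} (hn : 2 ≤ n)
    (e : G ≃* Equiv.Perm (Fin n)) : False := by
  have h : commutator (Equiv.Perm (Fin n)) ≤ Equiv.Perm.sign.ker :=
    Abelianization.commutator_subset_ker _
  rw [perfect_congr hperf e] at h
  have h01 : (⟨0, by omega⟩ : Fin n) ≠ ⟨1, by omega⟩ := fun h => by simp at h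
  have h1 : Equiv.Perm.sign (Equiv.swap (⟨0, by omega⟩ : Fin n) ⟨1, by omega⟩) = 1 :=
    h (Subgroup.mem_top _)
  rw [Equiv.Perm.sign_swap h01] at h1
  exact absurd h1 (by decide)

/-- The orthogonal case over three elements. -/
theorem ortho_three {G : Type u} [Group G] [Finite G] [IsSimpleGroup G]
    (hperf : commutator G = ⊤) (hZ : Subgroup.center G = ⊥) {n : ℕ} (hn : 5 ≤ n)
    {Q : QuadraticForm (ZMod 3) (Fin n → ZMod 3)}
    (hQ : (QuadraticMap.polarBilin Q).Nondegenerate)
    (e : G ≃* ↥(Cfsg.reflectionSubgroup (⇑Q) 1) ⧸ Subgroup.center ↥(Cfsg.reflectionSubgroup (⇑Q) 1)) :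
    ∃ m : ℕ, Nonempty (G ≃* Cfsg.POmega (ZMod 3) (Cfsg.quadFormOdd m (ZMod 3))) := by
  set R := Cfsg.reflectionSubgroup (⇑Q) (1 : ZMod 3) with hR
  set q : ↥R →* G := e.symm.toMonoidHom.comp (QuotientGroup.mk' (Subgroup.center ↥R)) with hq
  have hqs : Function.Surjective q :=
    e.symm.surjective.comp (QuotientGroup.mk'_surjective _)
  have hker : ∀ x : ↥R, q x = 1 ↔ x ∈ Subgroup.center ↥R := fun x => by
    rw [hq, MonoidHom.comp_apply, MulEquiv.coe_toMonoidHom, MulEquiv.map_eq_one_iff,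
      QuotientGroup.mk'_apply, QuotientGroup.eq_one_iff]
  -- every element is a commutator element times a central one
  have hdec : ∀ x : ↥R, ∃ k ∈ commutator ↥R, k⁻¹ * x ∈ Subgroup.center ↥R := by
    intro x
    have h : (commutator ↥R).map q = ⊤ := by
      rw [commutator_def, Subgroup.map_commutator, Subgroup.map_top_of_surjective _ hqs,
        ← commutator_def, hperf]
    obtain ⟨k, hk, hkx⟩ := h.ge (Subgroup.mem_top (q x))
    exact ⟨k, hk, (hker _).1 (by rw [map_mul, map_inv, hkx, inv_mul_cancel])⟩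
  have hidx := Ortho3.commutator_index hn hQ (one_ne_zero (α := ZMod 3))
  rw [← hR] at hidx
  obtain ⟨z, hz, hzn⟩ : ∃ z ∈ Subgroup.center ↥R, z ∉ commutator ↥R := by
    by_contra! hcon
    have : commutator ↥R = ⊤ := eq_top_iff.2 fun x _ => by
      obtain ⟨k, hk, hkx⟩ := hdec x
      simpa using mul_mem hk (hcon _ hkx)
    exact not_index_two this hidx
  have hz1 : z ≠ 1 := fun h => hzn (h ▸ one_mem _)
  have hcard : Nat.card ↥(Subgroup.center ↥R) ≤ 2 :=
    Disc.card_center_refl hQ one_ne_zero (by omega)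
  have hall : ∀ y ∈ Subgroup.center ↥R, y = 1 ∨ y = z := by
    intro y hy
    by_contra! hne
    have h3 : ({1, y, z} : Set ↥R).ncard = 3 := by
      rw [Set.ncard_eq_three]; exact ⟨1, y, z, hne.1.symm, hz1.symm, hne.2, rfl⟩
    have hle : ({1, y, z} : Set ↥R) ⊆ (Subgroup.center ↥R : Set ↥R) := by
      rintro w (rfl | rfl | rfl)
      exacts [one_mem _, hy, hz]
    have := Set.ncard_le_ncard hle (Set.toFinite _)
    rw [← Nat.card_coe_set_eq (Subgroup.center ↥R : Set ↥R), SetLike.coe_sort_coe] at this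
    omega
  -- the dimension is odd
  have hodd : Odd n := by
    rcases Nat.even_or_odd n with hev | hod
    swap
    · exact hod
    exfalso
    let δ : ↥R →* (ZMod 3)ˣ := Matrix.GeneralLinearGroup.det.comp
      ((Cfsg.isometryGroup (ZMod 3) ⇑Q).subtype.comp R.subtype)
    have hδc : ∀ k ∈ commutator ↥R, δ k = 1 := fun k hk =>
      Abelianization.commutator_subset_ker δ hk
    have hδz : δ z = 1 := by
      rcases Disc.center_scalar hQ one_ne_zero (by omega) hz with h | h
      · refine absurd (Subtype.ext (iso_ext fun x => ?_)) hz1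
        rw [← act_apply, ← act_apply, h, OneMemClass.coe_one, act_one]
      · have hM : (((z : Cfsg.isometryGroup (ZMod 3) ⇑Q) : Matrix.GeneralLinearGroup (Fin n) (ZMod 3)) :
            Matrix (Fin n) (Fin n) (ZMod 3)) = -1 :=
          Matrix.toLin'.injective (LinearMap.ext fun x => by
            rw [Matrix.toLin'_apply, Matrix.toLin'_apply, ← act_apply, h, Matrix.neg_mulVec,
              Matrix.one_mulVec])
        refine Units.ext ?_
        show (((z : Cfsg.isometryGroup (ZMod 3) ⇑Q) : Matrix.GeneralLinearGroup (Fin n) (ZMod 3)) :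
            Matrix (Fin n) (Fin n) (ZMod 3)).det = 1
        rw [hM, Matrix.det_neg, Matrix.det_one, mul_one, Fintype.card_fin, hev.neg_one_pow]
    obtain ⟨v, hv⟩ := Forms.Spinor.exists_value hQ (by decide) (by rw [Fintype.card_fin]; omega)
      (one_ne_zero (α := ZMod 3))
    have hr : reflect Q v ∈ R := Ortho3.reflect_mem hv
    obtain ⟨k, hk, hkx⟩ := hdec ⟨_, hr⟩
    have h1 : δ ⟨_, hr⟩ = 1 := by
      rw [show (⟨_, hr⟩ : ↥R) = k * (k⁻¹ * ⟨_, hr⟩) by group, map_mul, hδc k hk, one_mul]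
      rcases hall _ hkx with h | h <;> rw [h]
      · exact map_one δ
      · exact hδz
    have h2 := congrArg Units.val h1
    change ((reflect Q v : Matrix.GeneralLinearGroup (Fin n) (ZMod 3)) :
      Matrix (Fin n) (Fin n) (ZMod 3)).det = 1 at h2
    rw [Forms.SpecialOrth.det_reflect (by rw [hv]; exact one_ne_zero)] at h2
    exact absurd h2 (by decide)
  -- the commutator subgroup is the group
  have hinj : Function.Injective (q.comp (commutator ↥R).subtype) := by
    rw [← MonoidHom.ker_eq_bot_iff, eq_bot_iff]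
    intro k hk
    rcases hall _ ((hker _).1 hk) with h | h
    · exact Subgroup.mem_bot.2 (Subtype.ext h)
    · exact absurd (show z ∈ commutator ↥R from h ▸ k.2) hzn
  have hsurj : Function.Surjective (q.comp (commutator ↥R).subtype) := by
    intro g
    obtain ⟨x, rfl⟩ := hqs g
    obtain ⟨k, hk, hkx⟩ := hdec x
    refine ⟨⟨k, hk⟩, ?_⟩
    have h := (hker _).2 hkx
    rw [map_mul, map_inv, inv_mul_eq_one] at h
    exact h
  let ω : Cfsg.Omega (ZMod 3) ⇑Q ≃* G :=
    ((Subgroup.equivMapOfInjective _ _ (Subgroup.subtype_injective _)).trans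
      (MulEquiv.subgroupCongr (Ortho3.map_commutator_refl hn hQ one_ne_zero))).symm.trans
      (MulEquiv.ofBijective _ ⟨hinj, hsurj⟩)
  have hb : Subgroup.center (Cfsg.Omega (ZMod 3) ⇑Q) = ⊥ := by
    rw [eq_bot_iff]
    intro x hx
    have h1 : ω x ∈ Subgroup.center G := by
      rw [← GenA.Tower.map_center ω]; exact ⟨x, hx, rfl⟩
    rw [hZ, Subgroup.mem_bot] at h1
    exact Subgroup.mem_bot.2 (ω.injective (h1.trans (map_one ω).symm))
  obtain ⟨m, hm⟩ := hodd
  obtain ⟨c, hc, f, hf⟩ := Forms.Elusive.OrthUnipotent.odd_similar (ι := Fin n)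
    (κ := Unit ⊕ (Fin m ⊕ Fin m)) (m := m) (by rw [Fintype.card_fin, hm])
    (by simp [Fintype.card_sum]; omega) Q (Classical.OrthForms.oddQ (ZMod 3) m) hQ
    (Classical.OrthForms.oddQ_nondeg Ortho3.two_ne m)
  obtain ⟨ψ⟩ := Ortho7.pomega_congr (Q := ⇑Q) (R := ⇑(Classical.OrthForms.oddQ (ZMod 3) m)) c hc f hf
  rw [Classical.OrthForms.oddQ_eq] at ψ
  exact ⟨m, ⟨ω.symm.trans (((QuotientGroup.quotientMulEquivOfEq hb).trans
    QuotientGroup.quotientBot).symm.trans ψ)⟩⟩

/-- The simple groups generated by a class of 3-transpositions. -/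
theorem conclusion {G : Type u} [Group G] [Finite G] [IsSimpleGroup G]
    (hna : ∃ x y : G, x * y ≠ y * x) {D : Set G} (hD : Cfsg.IsThreeTranspositionClass D) :
    (∃ n : ℕ, Nonempty (G ≃* Matrix.symplecticGroup (Fin n) (ZMod 2))) ∨ (∃ (F : Type) (_ : Field F) (_ : Fintype F) (n : ℕ), Fintype.card F = 4 ∧ Nonempty (G ≃* Cfsg.PSU n F 2)) ∨ (∃ m : ℕ, Nonempty (G ≃* Cfsg.POmega (ZMod 3) (Cfsg.quadFormOdd m (ZMod 3)))) ∨ Cfsg.IsFi22 G ∨ Cfsg.IsFi23 G := by
  have hZ := center_eq_bot hna
  have hperf := perfect hna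
  have hsimple : IsSimpleGroup ↥(commutator G) :=
    ((MulEquiv.subgroupCongr hperf).trans Subgroup.topEquiv).isSimpleGroup
  by_cases hw : ∃ a ∈ D, ∃ b ∈ D, a ≠ b ∧ Commute a b
  swap
  · obtain ⟨e, -⟩ := sym_three hD hZ hsimple hw
    exact (not_perm hperf (by norm_num) e).elim
  have hS : Std D := ⟨(Classes.of_class hD).1, (((S5361.result hD hZ hw).1).1 hsimple), hw, hZ⟩
  have hG := hS.grp
  cases rows.classify hS with
  | sym n hn e =>
    obtain ⟨f, -⟩ := e.sym_iso hG hZ hn
    exact (not_perm hperf (by omega) f).elim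
  | sp m hm e =>
    obtain ⟨f, -⟩ := e.sp_iso hG hZ (by omega)
    exact .inl ⟨m, ⟨f⟩⟩
  | unit n hn e =>
    obtain ⟨f, -⟩ := e.unit_iso hG hZ hn
    exact .inr (.inl ⟨_, inferInstance, inferInstance, n, rfl, ⟨f⟩⟩)
  | o2p m hm e =>
    obtain ⟨f, -⟩ := e.o2p_iso hG hZ hm
    have h := perfect_congr hperf f
    rw [← Classical.OrthForms.plusQ_eq] at h
    have h6 : 6 ≤ Fintype.card (Fin m ⊕ Fin m) := by
      rw [Fintype.card_sum, Fintype.card_fin]; omega
    exact (not_index_two h (Forms.SpecialOrth.omega_index_two (Forms.PlusStd.plusQ_nondeg (ZMod 2) m)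
      (Or.inr (by omega)) (by omega))).elim
  | o2m m hm e =>
    obtain ⟨f, -⟩ := e.o2m_iso hG hZ hm
    have h := perfect_congr hperf f
    rw [← Classical.OrthForms.minQ_eq] at h
    have h6 : 6 ≤ Fintype.card ((Fin m ⊕ Fin m) ⊕ Fin 2) := by
      rw [Fintype.card_sum, Fintype.card_sum, Fintype.card_fin, Fintype.card_fin]; omega
    exact (not_index_two h (Forms.SpecialOrth.omega_index_two
      (Classical.OrthForms.minQ_nondeg m (a := (1 : ZMod 2)) (b := 1) (by decide))
      (Or.inr (by omega)) (by omega))).elim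
  | o3 n hn Q hQ e =>
    obtain ⟨f, -⟩ := e.o3_iso hG hZ hn hQ
    exact .inr (.inr (.inl (ortho_three hperf hZ hn hQ f)))
  | m22 e =>
    exact .inr (.inr (.inr (.inl ⟨inferInstance, M22.card_group hG hS.prim (m22_of_quot hG hZ e)⟩)))
  | m23 e =>
    exact .inr (.inr (.inr (.inr
      ⟨inferInstance, GenA.Tower.M23.card_group hG hS.prim (m23_of_quot hG hZ e)⟩)))
  | m24 e =>
    obtain ⟨x, hx, -⟩ := hD.2.1
    exact absurd (hperf ▸ Subgroup.mem_top x)
      (M24.Sign.not_mem_commutator hG hS.prim (m24_of_quot hG hZ e) x hx)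

end Cfsg.Agent.Fischer.Simple
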