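import Cfsg.Agent.Lib.Fischer.Local.Nb
import Cfsg.Agent.Lib.Fischer.Local.Transfer
import Cfsg.Agent.Lib.Fischer.Core.Odd
import Cfsg.Agent.Lib.Fischer.Core.Polar

/-!
Fischer's theorem: the induction, given what one step up from each entry of the list is.
-/

set_option autoImplicit false
set_option linter.unusedSectionVars false

namespace Cfsg.Agent.Fischer

open Cfsg.Agent.ThreeTransp
open Cfsg.Agent.ThreeTransp.Factor (nb Hd)

universe u

variable {G : Type u} [Group G] [Finite G] {D : Set G}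

/-- One step up from each entry of the list. -/
structure Rows : Prop where
  sym : ∀ (H : Type u) [Group H] [Finite H] (D : Set H) (x : H), Std D → x ∈ D → Below.{u} D.ncard →
    ∀ n, 5 ≤ n → GIso (nb D x) (symR n) → Types D
  sp : ∀ (H : Type u) [Group H] [Finite H] (D : Set H) (x : H), Std D → x ∈ D → Below.{u} D.ncard →
    ∀ m, 2 ≤ m → GIso (nb D x) (spR m) → Types D
  unit : ∀ (H : Type u) [Group H] [Finite H] (D : Set H) (x : H), Std D → x ∈ D → Below.{u} D.ncard →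
    ∀ n, 4 ≤ n → GIso (nb D x) (uR n) → Types D
  o2p : ∀ (H : Type u) [Group H] [Finite H] (D : Set H) (x : H), Std D → x ∈ D → Below.{u} D.ncard →
    ∀ m, 3 ≤ m → GIso (nb D x) (o2R (Cfsg.quadFormPlus m (ZMod 2))) → Types D
  o2m : ∀ (H : Type u) [Group H] [Finite H] (D : Set H) (x : H), Std D → x ∈ D → Below.{u} D.ncard →
    ∀ m, 2 ≤ m → GIso (nb D x) (o2R (Cfsg.quadFormMinus m (ZMod 2) 1 1)) → Types D
  o3 : ∀ (H : Type u) [Group H] [Finite H] (D : Set H) (x : H), Std D → x ∈ D → Below.{u} D.ncard →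
    ∀ n, 5 ≤ n → ∀ Q : QuadraticForm (ZMod 3) (Fin n → ZMod 3),
      (QuadraticMap.polarBilin Q).Nondegenerate → GIso (nb D x) (o3R Q) → Types D
  m22 : ∀ (H : Type u) [Group H] [Finite H] (D : Set H) (x : H), Std D → x ∈ D → Below.{u} D.ncard →
    Cfsg.IsOfTypeM22 (Quot (nb D x)) (img (nb D x)) → Types D
  m23 : ∀ (H : Type u) [Group H] [Finite H] (D : Set H) (x : H), Std D → x ∈ D → Below.{u} D.ncard →
    Cfsg.IsOfTypeM23 (Quot (nb D x)) (img (nb D x)) → Types D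
  m24 : ∀ (H : Type u) [Group H] [Finite H] (D : Set H) (x : H), Std D → x ∈ D → Below.{u} D.ncard →
    Cfsg.IsOfTypeM24 (Quot (nb D x)) (img (nb D x)) → Types D

variable (R : Rows.{u})
include R

/-- Central cores: one step up from a smaller entry. -/
theorem Std.step (h : Std D) {x : G} (hx : x ∈ D) (hB : Below.{u} D.ncard)
    (h2 : Cfsg.pCore 2 ↥(Hd D x) ≤ Subgroup.center ↥(Hd D x))
    (h3 : Cfsg.pCore 3 ↥(Hd D x) ≤ Subgroup.center ↥(Hd D x)) : Types D := by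
  have hlt : (nb D x).ncard < D.ncard :=
    Set.ncard_lt_ncard ⟨fun y hy => hy.1, fun k => (k hx).2.1 rfl⟩ (Set.toFinite _)
  cases (h.space_nb hx h2 h3).types hB hlt with
  | sym n hn e => exact R.sym G D x h hx hB n hn e
  | sp m hm e => exact R.sp G D x h hx hB m hm e
  | unit n hn e => exact R.unit G D x h hx hB n hn e
  | o2p m hm e => exact R.o2p G D x h hx hB m hm e
  | o2m m hm e => exact R.o2m G D x h hx hB m hm e
  | o3 n hn Q hQ e => exact R.o3 G D x h hx hB n hn Q hQ e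
  | m22 e => exact R.m22 G D x h hx hB e
  | m23 e => exact R.m23 G D x h hx hB e
  | m24 e => exact R.m24 G D x h hx hB e

theorem Std.types_of_below (h : Std D) (hB : Below.{u} D.ncard) : Types D := by
  obtain ⟨x, hx, -⟩ := h.wide
  by_cases h3 : Cfsg.pCore 3 ↥(Hd D x) ≤ Subgroup.center ↥(Hd D x)
  · by_cases h2 : Cfsg.pCore 2 ↥(Hd D x) ≤ Subgroup.center ↥(Hd D x)
    · exact h.step R hx hB h2 h3
    · rcases h.types_polar hx h2 with ⟨m, hm, e⟩ | ⟨n, hn, e⟩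
      exacts [.sp m hm e, .unit n hn e]
  · exact h.types_odd hx h3

theorem below_all : ∀ n, Below.{u} n := by
  intro n
  induction n with
  | zero => exact fun _ _ _ _ _ k => absurd k (Nat.not_lt_zero _)
  | succ k ih =>
    intro H _ _ E hE hlt
    exact hE.types_of_below R fun K _ _ F hF hF' => ih K F hF (by omega)

/-- The list. -/
theorem Rows.classify (h : Std D) : Types D :=
  h.types_of_below R (below_all R _)

omit R

/-- Twins among the members commuting with one member, read in the graph. -/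
theorem Space.twin_eq {x : G} {P : Type} {S : P → P → Prop} (hs : Space (nb D x))
    (hx : x ∈ D) (φ : D ≃ P) (hφ : ∀ a b : D, Commute (a : G) (b : G) ↔ S (φ a) (φ b)) {s t : P}
    (hs1 : s ≠ φ ⟨x, hx⟩) (hs2 : S (φ ⟨x, hx⟩) s) (ht1 : t ≠ φ ⟨x, hx⟩) (ht2 : S (φ ⟨x, hx⟩) t)
    (htw : ∀ u, u ≠ φ ⟨x, hx⟩ → S (φ ⟨x, hx⟩) u → (S s u ↔ S t u)) : s = t := by
  obtain ⟨a, rfl⟩ := φ.surjective s
  obtain ⟨b, rfl⟩ := φ.surjective t
  have ha : (a : G) ∈ nb D x :=
    ⟨a.2, fun k => hs1 (congrArg φ (Subtype.ext k)), (hφ ⟨x, hx⟩ a).2 hs2⟩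
  have hb : (b : G) ∈ nb D x :=
    ⟨b.2, fun k => ht1 (congrArg φ (Subtype.ext k)), (hφ ⟨x, hx⟩ b).2 ht2⟩
  refine congrArg φ (Subtype.ext (hs.sep _ ha _ hb fun e he => ?_))
  rw [hφ a ⟨e, he.1⟩, hφ b ⟨e, he.1⟩]
  exact htw _ (fun k => he.2.1 (congrArg Subtype.val (φ.injective k))) ((hφ ⟨x, hx⟩ ⟨e, he.1⟩).1 he.2.2)

theorem Space.exists_nb {x : G} (hs : Space (nb D x)) : (nb D x).Nonempty := by
  obtain ⟨a, ha, -⟩ := hs.wide
  exact ⟨a, ha⟩

theorem spR_not {x : G} (hx : x ∈ D) {m : ℕ} (hs : Space (nb D x)) : ¬ GIso D (spR m) := by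
  rintro ⟨φ, hφ⟩
  obtain ⟨a, ha⟩ := hs.exists_nb
  set r := φ ⟨x, hx⟩ with hr
  set s := φ ⟨a, ha.1⟩ with hs'
  have hrs : spR m r s := (hφ _ _).1 ha.2.2
  have hne : s ≠ r := fun k => ha.2.1 (congrArg Subtype.val (φ.injective k))
  have ht0 : s.1 + r.1 ≠ 0 := fun k => hne (Subtype.ext (by
    funext i
    have := congrFun k i
    exact CharTwo.add_eq_zero.1 this))
  have htr : (⟨s.1 + r.1, ht0⟩ : SpP m) ≠ r := fun k => s.2 (by
    simpa using congrArg Subtype.val k)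
  have hB : ∀ u v w : Fin m ⊕ Fin m → ZMod 2, Cfsg.sympForm m (ZMod 2) (u + v) w =
      Cfsg.sympForm m (ZMod 2) u w + Cfsg.sympForm m (ZMod 2) v w ∧
      Cfsg.sympForm m (ZMod 2) w (u + v) =
      Cfsg.sympForm m (ZMod 2) w u + Cfsg.sympForm m (ZMod 2) w v := fun u v w => by
    simp [← Forms.SympStd.sympB_apply]
  have hrr : spR m r r := (hφ _ _).1 (Commute.refl x)
  refine r.2 (?_ : r.1 = 0)
  have e := hs.twin_eq hx φ hφ (s := s) (t := ⟨s.1 + r.1, ht0⟩) hne hrs htr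
    (show Cfsg.sympForm m (ZMod 2) r.1 (s.1 + r.1) = 0 by
      rw [(hB _ _ _).2]; simp only [spR] at hrs hrr; rw [hrs, hrr, add_zero])
    (fun u _ hu => by
      show _ = 0 ↔ Cfsg.sympForm m (ZMod 2) (s.1 + r.1) u.1 = 0
      rw [(hB _ _ _).1, show Cfsg.sympForm m (ZMod 2) r.1 u.1 = 0 from hu, add_zero])
  simpa using congrArg Subtype.val e

theorem uR_not {x : G} (hx : x ∈ D) {n : ℕ} (hs : Space (nb D x)) : ¬ GIso D (uR n) := by
  rintro ⟨φ, hφ⟩
  obtain ⟨a, ha⟩ := hs.exists_nb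
  obtain ⟨⟨R', v, hv0, hv, hR⟩, hr⟩ : ∃ r, φ ⟨x, hx⟩ = r := ⟨_, rfl⟩
  obtain ⟨⟨S', w, hw0, hw, hS⟩, hs'⟩ : ∃ s, φ ⟨a, ha.1⟩ = s := ⟨_, rfl⟩
  have hvw : Cfsg.hermForm n InvChar.Coset.FF 2 v w = 0 := by
    have := (hφ ⟨x, hx⟩ ⟨a, ha.1⟩).1 ha.2.2
    rw [hr, hs', uR_span (v := v) (w := w) hR hS] at this
    exact this
  have hwv : Cfsg.hermForm n InvChar.Coset.FF 2 w v = 0 := by
    have := (hφ ⟨a, ha.1⟩ ⟨x, hx⟩).1 ha.2.2.symm
    rw [hr, hs', uR_span (v := w) (w := v) hS hR] at this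
    exact this
  have hsq : ∀ p q : InvChar.Coset.FF, (p + q) ^ 2 = p ^ 2 + q ^ 2 := by decide
  have hB : ∀ p q z : Fin n → InvChar.Coset.FF,
      Cfsg.hermForm n InvChar.Coset.FF 2 (p + q) z =
        Cfsg.hermForm n InvChar.Coset.FF 2 p z + Cfsg.hermForm n InvChar.Coset.FF 2 q z ∧
      Cfsg.hermForm n InvChar.Coset.FF 2 z (p + q) =
        Cfsg.hermForm n InvChar.Coset.FF 2 z p + Cfsg.hermForm n InvChar.Coset.FF 2 z q := by
    intro p q z
    simp only [Cfsg.hermForm, Pi.add_apply, hsq, add_mul, mul_add, Finset.sum_add_distrib, and_self]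
  have hne : (⟨S', w, hw0, hw, hS⟩ : UP n) ≠ ⟨R', v, hv0, hv, hR⟩ := fun k => ha.2.1
    (congrArg Subtype.val (φ.injective (hs'.trans (k.trans hr.symm))))
  have hmem : ∀ c : InvChar.Coset.FF, c • v ≠ w := fun c hc => hne (Subtype.ext (by
    show S' = R'
    rw [hR, hS, ← hc, Submodule.span_singleton_smul_eq (IsUnit.mk0 c fun c0 => hw0 (by
      rw [← hc, c0, zero_smul]))]))
  have hneg : ∀ p : InvChar.Coset.FF, -p = p := fun p => rfl
  have hvwn : v + w ≠ 0 := fun k => hmem 1 (by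
    rw [one_smul]; funext i
    have := congrFun k i
    exact (eq_neg_of_add_eq_zero_left this).trans (hneg _))
  have hiso : Cfsg.hermForm n InvChar.Coset.FF 2 (v + w) (v + w) = 0 := by
    rw [(hB _ _ _).1, (hB _ _ _).2, (hB _ _ _).2, hv, hvw, hwv, hw]; simp
  let T : UP n := ⟨Submodule.span InvChar.Coset.FF {v + w}, v + w, hvwn, hiso, rfl⟩
  have hT : T ≠ ⟨R', v, hv0, hv, hR⟩ := fun k => by
    have k' : Submodule.span InvChar.Coset.FF {v + w} = R' := congrArg Subtype.val k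
    obtain ⟨c, hc⟩ := Submodule.mem_span_singleton.1
      ((k'.trans hR) ▸ Submodule.mem_span_singleton_self (v + w))
    exact hmem (c - 1) (by rw [sub_smul, one_smul, hc]; abel)
  have hT' : uR n ⟨R', v, hv0, hv, hR⟩ T := by
    rw [uR_span (v := v) (w := v + w) hR rfl, (hB _ _ _).2, hv, hvw, add_zero]
  have e := hs.twin_eq hx φ hφ (s := φ ⟨a, ha.1⟩) (t := T) (by rw [hs', hr]; exact hne)
    ((hφ _ _).1 ha.2.2) (by rw [hr]; exact hT) (by rw [hr]; exact hT') (by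
      rintro ⟨U, z, hz0, hz, hU⟩ - hu
      rw [hr, uR_span (v := v) (w := z) hR hU] at hu
      rw [hs', uR_span (v := w) (w := z) hS hU, uR_span (v := v + w) (w := z) rfl hU, (hB _ _ _).1,
        hu, zero_add])
  rw [hs'] at e
  have k' : S' = Submodule.span InvChar.Coset.FF {v + w} := congrArg Subtype.val e
  obtain ⟨c, hc⟩ := Submodule.mem_span_singleton.1
    ((hS.symm.trans k').symm ▸ Submodule.mem_span_singleton_self (v + w))
  refine hv0 ?_
  by_cases hc1 : c = 1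
  · rw [hc1, one_smul] at hc; exact left_eq_add.1 (by rw [add_comm]; exact hc) 
  · exfalso
    exact hmem (c - 1)⁻¹ (by
      rw [inv_smul_eq_iff₀ (sub_ne_zero.2 hc1), sub_smul, one_smul, hc, add_sub_cancel_right])

theorem sym_not {x : G} (hx : x ∈ D) {n : ℕ} (hn : n = 5 ∨ n = 6) (hs : Space (nb D x)) :
    ¬ GIso D (symR n) := by
  classical
  rintro ⟨φ, hφ⟩
  obtain ⟨a, ha, b, hb, hab, hc⟩ := hs.wide
  have k : ∀ {y : G} (hy : y ∈ nb D x), Disjoint (φ ⟨x, hx⟩).1 (φ ⟨y, hy.1⟩).1 := fun {y} hy =>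
    ((hφ _ _).1 hy.2.2).resolve_left fun e => hy.2.1 (congrArg Subtype.val (φ.injective e)).symm
  have hd1 := k ha
  have hd2 := k hb
  have hd3 : Disjoint (φ ⟨a, ha.1⟩).1 (φ ⟨b, hb.1⟩).1 :=
    ((hφ ⟨a, ha.1⟩ ⟨b, hb.1⟩).1 hc).resolve_left fun e => hab (congrArg Subtype.val (φ.injective e))
  have hcard := Finset.card_le_univ ((φ ⟨x, hx⟩).1 ∪ (φ ⟨a, ha.1⟩).1 ∪ (φ ⟨b, hb.1⟩).1)
  rw [Finset.card_union_of_disjoint (Finset.disjoint_union_left.2 ⟨hd2, hd3⟩),
    Finset.card_union_of_disjoint hd1, (φ ⟨x, hx⟩).2, (φ ⟨a, ha.1⟩).2, (φ ⟨b, hb.1⟩).2,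
    Fintype.card_fin] at hcard
  obtain rfl : n = 6 := by omega
  have huniv : (φ ⟨x, hx⟩).1 ∪ (φ ⟨a, ha.1⟩).1 ∪ (φ ⟨b, hb.1⟩).1 = Finset.univ := by
    apply Finset.eq_univ_of_card
    rw [Finset.card_union_of_disjoint (Finset.disjoint_union_left.2 ⟨hd2, hd3⟩),
      Finset.card_union_of_disjoint hd1, (φ ⟨x, hx⟩).2, (φ ⟨a, ha.1⟩).2, (φ ⟨b, hb.1⟩).2,
      Fintype.card_fin]
  refine hab (congrArg Subtype.val (φ.injective (hs.twin_eq hx φ hφ
    (s := φ ⟨a, ha.1⟩) (t := φ ⟨b, hb.1⟩) (fun e => ha.2.1 (congrArg Subtype.val (φ.injective e))) ((hφ _ _).1 ha.2.2)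
    (fun e => hb.2.1 (congrArg Subtype.val (φ.injective e))) ((hφ _ _).1 hb.2.2) fun u hu1 hu2 => ?_)))
  have hu := hu2.resolve_left fun e => hu1 e.symm
  -- both say that `u` is one of the two pairs
  have key : ∀ S T : Finset (Fin 6), S ∪ T = Finset.univ \ (φ ⟨x, hx⟩).1 → Disjoint S T → S.card = 2 →
      (u.1 = S ∨ Disjoint S u.1 ↔ u.1 = S ∨ u.1 = T) := by
    intro S T hST hdis hS
    refine ⟨fun h => h.imp id fun h => ?_, fun h => h.imp id fun (k : u.1 = T) => (by rw [k]; exact hdis)⟩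
    refine Finset.eq_of_subset_of_card_le (fun i hi => ?_) ?_
    · have : i ∈ S ∪ T := by
        rw [hST, Finset.mem_sdiff]
        exact ⟨Finset.mem_univ _, Finset.disjoint_right.1 hu hi⟩
      exact (Finset.mem_union.1 this).resolve_left (Finset.disjoint_right.1 h hi)
    · have := Finset.card_union_of_disjoint hdis
      rw [hST, Finset.card_sdiff_of_subset (Finset.subset_univ _), (φ ⟨x, hx⟩).2, Finset.card_univ,
        Fintype.card_fin] at this
      rw [u.2]; omega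
  have hrest : (φ ⟨a, ha.1⟩).1 ∪ (φ ⟨b, hb.1⟩).1 = Finset.univ \ (φ ⟨x, hx⟩).1 := by
    rw [← huniv, Finset.union_assoc, Finset.union_sdiff_left, eq_comm, Finset.sdiff_eq_self_iff_disjoint]
    exact Finset.disjoint_union_left.2 ⟨hd1.symm, hd2.symm⟩
  simp only [symR]
  rw [eq_comm (a := φ ⟨a, ha.1⟩), eq_comm (a := φ ⟨b, hb.1⟩), Subtype.ext_iff, Subtype.ext_iff,
    key _ _ hrest hd3 (φ ⟨a, ha.1⟩).2, key _ _ ((Finset.union_comm _ _).trans hrest) hd3.symm (φ ⟨b, hb.1⟩).2]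
  exact or_comm

end Cfsg.Agent.Fischer
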